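import Cfsg.Agent.H1.RepFree

/-!
Representations of dimension at most two of solvable groups of odd order (BG 2.6).
-/

set_option autoImplicit false

namespace Cfsg.Agent.H1

open Module Subgroup Cfsg TensorProduct MulAction
open scoped commutatorElement IsMulCommutative

variable {H : Type*} [Group H] {k V : Type*} [Field k] [AddCommGroup V] [Module k V]

theorem map_commutatorElement_eq_one {M : Type*} [Monoid M] (σ : H →* M) {a b : H}
    (h : Commute (σ a) (σ b)) : σ ⁅a, b⁆ = 1 := by
  rw [commutatorElement_def, map_mul, map_mul, map_mul, h.eq, ← map_mul, ← map_mul, ← map_mul]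
  simp

theorem commute_of_map_commutatorElement {M : Type*} [Monoid M] (σ : H →* M) {a b : H}
    (h : σ ⁅a, b⁆ = 1) : Commute (σ a) (σ b) := by
  change _ * _ = _ * _
  rw [← map_mul, ← map_mul, show a * b = ⁅a, b⁆ * (b * a) by simp [commutatorElement_def],
    map_mul, h, one_mul]

theorem commutator_le_ker_of_finrank_le_one [FiniteDimensional k V] (σ : H →* End k V)
    (h : finrank k V ≤ 1) : _root_.commutator H ≤ σ.ker := by
  obtain ⟨v, hv⟩ := finrank_le_one_iff.mp h
  have key : ∀ T : End k V, ∃ c : k, T = c • 1 := by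
    intro T
    obtain ⟨c, hc⟩ := hv (T v)
    refine ⟨c, LinearMap.ext fun w => ?_⟩
    obtain ⟨d, rfl⟩ := hv w
    simp [← hc, smul_smul, mul_comm]
  rw [_root_.commutator, commutator_le]
  intro a _ b _
  obtain ⟨c, hc⟩ := key (σ a)
  refine map_commutatorElement_eq_one σ ?_
  rw [hc]
  exact (Commute.one_left _).smul_left c

theorem exists_invariant_line [Finite H] [Group.IsSolvable H] (ho : Odd (Nat.card H))
    [IsAlgClosed k] [FiniteDimensional k V] (ρ : H →* End k V) (h2 : finrank k V = 2) :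
    ∃ L : Submodule k V, L ≠ ⊥ ∧ L ≠ ⊤ ∧ ∀ x, L ≤ L.comap (ρ x) := by
  classical
  have : Nontrivial V := Module.nontrivial_of_finrank_pos (R := k) (by omega)
  by_cases hS : scalarSub ρ = ⊤
  · obtain ⟨v, hv⟩ := exists_ne (0 : V)
    refine ⟨Submodule.span k {v}, by simpa using hv, fun e => ?_, fun x w hw => ?_⟩
    · have := finrank_span_singleton (K := k) hv
      rw [e, finrank_top] at this
      omega
    · obtain ⟨c, hc⟩ : x ∈ scalarSub ρ := hS ▸ mem_top x
      rw [Submodule.mem_comap, hc]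
      exact Submodule.smul_mem _ c hw
  have hex : ∃ i, derivedSeries H i ≤ scalarSub ρ := by
    obtain ⟨n, hn⟩ := Group.IsSolvable.solvable (G := H)
    exact ⟨n, hn ▸ bot_le⟩
  obtain ⟨i, hi⟩ : ∃ i, Nat.find hex = i + 1 := Nat.exists_eq_succ_of_ne_zero fun e => hS (by
    have := Nat.find_spec hex
    rwa [e, derivedSeries_zero, top_le_iff] at this)
  have h1 : ¬ derivedSeries H i ≤ scalarSub ρ := Nat.find_min hex (by omega)
  have h3 := Nat.find_spec hex
  rw [hi, derivedSeries_succ] at h3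
  set A := derivedSeries H i
  have hc : ∀ a ∈ A, ∀ b ∈ A, Commute (ρ a) (ρ b) := by
    intro a ha b hb
    obtain ⟨c, hc⟩ := h3 (commutator_mem_commutator ha hb)
    have h4 : c ^ 2 = 1 := by
      have := map_commutatorElement_eq_one ((LinearMap.det : End k V →* k).comp ρ) (a := a) (b := b)
        (Commute.all _ _)
      rwa [MonoidHom.comp_apply, hc, LinearMap.det_smul, map_one, mul_one, h2] at this
    have h5 : c ^ Nat.card H = 1 := by
      have h6 : (c ^ Nat.card H) • (1 : End k V) = (1 : k) • 1 := by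
        rw [one_smul, ← one_pow (Nat.card H), ← smul_pow, ← hc, ← map_pow, pow_card_eq_one',
          map_one, one_pow]
      exact smul_left_injective k one_ne_zero h6
    obtain ⟨m, hm⟩ := ho
    rw [hm, pow_succ, pow_mul, h4, one_pow, one_mul] at h5
    exact commute_of_map_commutatorElement ρ (by rw [hc, h5, one_smul])
  obtain ⟨μ, v, -, hv, h0⟩ := exists_weight_vector (fun z : A => ρ z) (W := ⊤) top_ne_bot
    (fun _ _ _ => trivial) fun i j v _ => by
      rw [← End.mul_apply, ← End.mul_apply, (hc _ i.2 _ j.2).eq]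
  have hμ : wtSp ρ A μ ≠ ⊥ := (Submodule.ne_bot_iff _).mpr ⟨v, mem_wtSp.mpr h0, hv⟩
  have hind := iSupIndep_wtSp' ρ A hc
  let _ := hind.fintypeNeBotOfFiniteDimensional
  have h4 : (stabilizer H (show Wt A k from μ)).index ≤ 2 := by
    rw [index_stabilizer, ← h2, ← Nat.card_coe_set_eq]
    refine le_trans ?_ hind.subtype_ne_bot_le_finrank
    rw [← Nat.card_eq_fintype_card]
    refine Nat.card_le_card_of_injective (fun ν => ⟨ν.1, ?_⟩) fun a b e =>
      Subtype.ext (congrArg (fun z : {ν // wtSp ρ A ν ≠ ⊥} => z.1) e)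
    obtain ⟨_, x, rfl⟩ := ν
    exact wtSp_smul_ne_bot hμ x
  have h5 : (stabilizer H (show Wt A k from μ)).index = 1 := by
    obtain ⟨m, hm⟩ := ho.of_dvd_nat (index_dvd_card (stabilizer H (show Wt A k from μ)))
    omega
  rw [index_eq_one] at h5
  refine ⟨wtSp ρ A μ, hμ, fun e => h1 fun a ha => ⟨μ ⟨a, ha⟩, LinearMap.ext fun w => ?_⟩,
    fun x w hw => ?_⟩
  · exact mem_wtSp.mp (e ▸ Submodule.mem_top : w ∈ wtSp ρ A μ) ⟨a, ha⟩
  · have h6 := apply_mem_wtSp hw x
    rwa [show x • (show Wt A k from μ) = μ from (h5 ▸ mem_top x : x ∈ stabilizer H _)] at h6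

theorem sub_one_sq_eq_zero_of_isAlgClosed [Finite H] [Group.IsSolvable H] (ho : Odd (Nat.card H))
    [IsAlgClosed k] [FiniteDimensional k V] (ρ : H →* End k V) (h2 : finrank k V ≤ 2) {x : H}
    (hx : x ∈ _root_.commutator H) : (ρ x - 1) ^ 2 = 0 := by
  rcases h2.lt_or_eq with h | h
  · have h1 : ρ x = 1 := commutator_le_ker_of_finrank_le_one ρ (by omega) hx
    simp [h1]
  obtain ⟨L, h0, h1, hL⟩ := exists_invariant_line ho ρ h
  have h3 := Submodule.finrank_lt h1
  have h4 := Submodule.finrank_quotient_add_finrank L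
  have h5 : 0 < finrank k L := Nat.pos_of_ne_zero fun e => h0 (Submodule.finrank_eq_zero.mp e)
  have h6 := commutator_le_ker_of_finrank_le_one (Representation.subrepresentation ρ L hL)
    (by omega) hx
  have h7 := commutator_le_ker_of_finrank_le_one (Representation.quotient ρ L hL) (by omega) hx
  ext v
  have h8 : ρ x v - v ∈ L :=
    (Submodule.Quotient.eq L).mp (LinearMap.congr_fun (MonoidHom.mem_ker.mp h7) (L.mkQ v))
  have h9 := congrArg Subtype.val (LinearMap.congr_fun (MonoidHom.mem_ker.mp h6) ⟨_, h8⟩)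
  rw [pow_two, End.mul_apply, LinearMap.sub_apply, LinearMap.zero_apply, sub_eq_zero]
  exact h9

/-- BG 2.6: the derived group of an odd order solvable group acts unipotently in dimension 2. -/
theorem sub_one_sq_eq_zero [Finite H] [Group.IsSolvable H] (ho : Odd (Nat.card H))
    [FiniteDimensional k V] (ρ : H →* End k V) (h2 : finrank k V ≤ 2) {x : H}
    (hx : x ∈ _root_.commutator H) : (ρ x - 1) ^ 2 = 0 := by
  have h := sub_one_sq_eq_zero_of_isAlgClosed ho (baseChangeRep (AlgebraicClosure k) ρ)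
    (by rwa [Module.finrank_baseChange]) hx
  apply baseChangeHom_end_injective (AlgebraicClosure k)
  rw [map_pow, map_sub, map_one, map_zero]
  exact h

theorem pow_eq_of_sub_one_sq {T : End k V} (h : (T - 1) ^ 2 = 0) (n : ℕ) :
    T ^ n = 1 + (n : k) • (T - 1) := by
  induction n with
  | zero => simp
  | succ n ih =>
    have : T = 1 + (T - 1) := by abel
    rw [pow_succ, ih, Nat.cast_succ, add_smul, one_smul]
    nth_rw 2 [this]
    rw [mul_add, mul_one, add_mul, one_mul, smul_mul_assoc, ← pow_two, h, smul_zero, add_zero,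
      add_assoc]

theorem eq_one_of_finrank_le_two [Finite H] [Group.IsSolvable H] (ho : Odd (Nat.card H))
    [FiniteDimensional k V] (ρ : H →* End k V) (h2 : finrank k V ≤ 2)
    (hc : (Nat.card H : k) ≠ 0) {x : H} (hx : x ∈ _root_.commutator H) : ρ x = 1 := by
  have h := pow_eq_of_sub_one_sq (sub_one_sq_eq_zero ho ρ h2 hx) (Nat.card H)
  rw [← map_pow, pow_card_eq_one', map_one, left_eq_add, smul_eq_zero, sub_eq_zero] at h
  exact h.resolve_left hc

theorem pow_eq_one_of_finrank_le_two [Finite H] [Group.IsSolvable H] (ho : Odd (Nat.card H))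
    [FiniteDimensional k V] (ρ : H →* End k V) (h2 : finrank k V ≤ 2) (p : ℕ) [CharP k p]
    {x : H} (hx : x ∈ _root_.commutator H) : ρ (x ^ p) = 1 := by
  rw [map_pow, pow_eq_of_sub_one_sq (sub_one_sq_eq_zero ho ρ h2 hx), CharP.cast_eq_zero,
    zero_smul, add_zero]

section Amb

universe u

variable {X : Type u} [Group X] [Finite X] {p : ℕ} {A E : Subgroup X}

theorem mk_mem_commutator {Y : Type*} [Group Y] {N : Subgroup Y} [N.Normal] {x : Y}
    (hx : x ∈ _root_.commutator Y) : (x : Y ⧸ N) ∈ _root_.commutator (Y ⧸ N) := by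
  have := mem_map_of_mem (QuotientGroup.mk' N) hx
  rw [_root_.commutator, map_commutator] at this
  exact commutator_mono le_top le_top this

theorem exists_rep_of_card_le_sq (hp : p.Prime) (hE : IsElementaryAbelian p E)
    (hE2 : Nat.card E ≤ p ^ 2) (hA : A ≤ normalizer (E : Set X)) :
    ∃ (_ : Fact p.Prime) (W : Type u) (_ : AddCommGroup W) (_ : Module (ZMod p) W)
      (_ : FiniteDimensional (ZMod p) W) (ρ : A →* End (ZMod p) W), finrank (ZMod p) W ≤ 2 ∧
        ρ.ker = (centralizer (E : Set X)).subgroupOf A := by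
  have := Fact.mk hp
  have := hE.1
  have he := pow_eq_one_of_isElementaryAbelian hE
  refine ⟨inferInstance, EA E he, inferInstance, inferInstance, inferInstance,
    autRep he (conjAut hA), ?_, ?_⟩
  · rw [← card_EA he, Module.natCard_eq_pow_finrank (K := ZMod p), Nat.card_zmod] at hE2
    exact (Nat.pow_le_pow_iff_right hp.one_lt).mp hE2
  · rw [← ker_conjAut hA]
    ext x
    exact autRep_eq_one_iff he _ x

theorem commutator_le_centralizer_of_card_le_sq (hp : p.Prime) (hE : IsElementaryAbelian p E)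
    (hE2 : Nat.card E ≤ p ^ 2) (hA : A ≤ normalizer (E : Set X)) (hs : Group.IsSolvable A)
    (ho : Odd ((centralizer (E : Set X)).relIndex A))
    (hc : ¬ p ∣ (centralizer (E : Set X)).relIndex A) : ⁅A, A⁆ ≤ centralizer (E : Set X) := by
  obtain ⟨_, W, _, _, _, ρ, h2, hk⟩ := exists_rep_of_card_le_sq hp hE hE2 hA
  have hcard : Nat.card (A ⧸ ρ.ker) = (centralizer (E : Set X)).relIndex A := by rw [hk]; rfl
  rw [← A.map_subtype_commutator]
  rintro _ ⟨x, hx, rfl⟩
  have h := eq_one_of_finrank_le_two (hcard ▸ ho) (kerRep ρ) h2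
    (by rwa [hcard, Ne, ZMod.natCast_eq_zero_iff]) (x := (x : A ⧸ ρ.ker))
    (mk_mem_commutator hx)
  exact (hk.le (MonoidHom.mem_ker.mpr h) :)

theorem pow_mem_centralizer_of_card_le_sq (hp : p.Prime) (hE : IsElementaryAbelian p E)
    (hE2 : Nat.card E ≤ p ^ 2) (hA : A ≤ normalizer (E : Set X)) (hs : Group.IsSolvable A)
    (ho : Odd ((centralizer (E : Set X)).relIndex A)) {x : X} (hx : x ∈ ⁅A, A⁆) :
    x ^ p ∈ centralizer (E : Set X) := by
  obtain ⟨_, W, _, _, _, ρ, h2, hk⟩ := exists_rep_of_card_le_sq hp hE hE2 hA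
  have hcard : Nat.card (A ⧸ ρ.ker) = (centralizer (E : Set X)).relIndex A := by rw [hk]; rfl
  rw [← A.map_subtype_commutator] at hx
  obtain ⟨x, hx, rfl⟩ := hx
  have h := pow_eq_one_of_finrank_le_two (hcard ▸ ho) (kerRep ρ) h2 p (x := (x : A ⧸ ρ.ker))
    (mk_mem_commutator hx)
  exact (hk.le (show x ^ p ∈ ρ.ker from MonoidHom.mem_ker.mpr h) :)

end Amb

end Cfsg.Agent.H1
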