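import Cfsg.Agent.H1.PStd

/-! The Hall–Higman bound `l_p ≤ e_p` in the non-exceptional case. -/

set_option autoImplicit false

open Subgroup Module
open scoped commutatorElement IsMulCommutative

namespace Cfsg.Agent.H1

universe u

variable {G : Type*} [Group G]

theorem exists_lift_pElement [Finite G] {H : Type*} [Group H] {f : G →* H}
    (hf : Function.Surjective f) {p : ℕ} (hp : p.Prime) {y : H} {k : ℕ} (hy : y ^ p ^ k = 1) :
    ∃ x : G, f x = y ∧ ∃ l, x ^ p ^ l = 1 := by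
  obtain ⟨x, rfl⟩ := hf y
  obtain ⟨a, b, -, hb, hab, -, ⟨l, hl⟩, hbp⟩ := H8.exists_pPart_pPrimePart hp x
  refine ⟨a, ?_, l, hl ▸ pow_orderOf_eq_one a⟩
  have h1 : f b = 1 := by
    obtain ⟨n, rfl⟩ := hb
    refine orderOf_eq_one_iff.mp (Nat.eq_one_of_dvd_coprimes (hbp.pow_right k)
      (orderOf_map_dvd f _) (orderOf_dvd_of_pow_eq_one ?_))
    rw [map_zpow, ← zpow_natCast, ← zpow_mul, mul_comm, zpow_mul, zpow_natCast, hy, one_zpow]
  rw [hab, map_mul, h1, mul_one]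

/-- All `p`-elements have order dividing `p ^ e`. -/
def PExpLE (p e : ℕ) (G : Type*) [Group G] : Prop := ∀ (g : G) (k : ℕ), g ^ p ^ k = 1 → g ^ p ^ e = 1

theorem PExpLE.of_surjective [Finite G] {p e : ℕ} (hp : p.Prime) (h : PExpLE p e G) {H : Type*}
    [Group H] {f : G →* H} (hf : Function.Surjective f) : PExpLE p e H := by
  intro y k hy
  obtain ⟨x, rfl, l, hl⟩ := exists_lift_pElement hf hp hy
  rw [← map_pow, h x l hl, map_one]

theorem isPGroup_zpowers_of_pow_eq_one {p k : ℕ} {g : G} (h : g ^ p ^ k = 1) :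
    IsPGroup p (zpowers g) := by
  rintro ⟨_, n, rfl⟩
  refine ⟨k, Subtype.ext ?_⟩
  change (g ^ n) ^ p ^ k = 1
  rw [← zpow_natCast, ← zpow_mul, mul_comm, zpow_mul, zpow_natCast, h, one_zpow]

theorem pExpLE_of_sylow {p e : ℕ}
    (h : ∀ P : Sylow p G, ∀ x ∈ (P : Subgroup G), x ^ p ^ e = 1) : PExpLE p e G := by
  intro g k hg
  obtain ⟨P, hP⟩ := (isPGroup_zpowers_of_pow_eq_one hg).exists_le_sylow
  exact h P g (hP (mem_zpowers g))

theorem PExpLE.coprime [Finite G] {p : ℕ} (hp : p.Prime) (h : PExpLE p 0 G) :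
    (Nat.card G).Coprime p := by
  have := Fact.mk hp
  rw [Nat.coprime_comm, hp.coprime_iff_not_dvd]
  intro hd
  obtain ⟨g, hg⟩ := exists_prime_orderOf_dvd_card' p hd
  have := h g 1 (by rw [pow_one, ← hg, pow_orderOf_eq_one])
  rw [pow_zero, pow_one] at this
  rw [this, orderOf_one] at hg
  exact hp.one_lt.ne hg

theorem exists_mul_pow_eq_one [Finite G] {p : ℕ} {V : Subgroup G} [V.Normal] (hV : IsPGroup p V)
    {v g : G} (hv : v ∈ V) {k : ℕ} (hg : g ^ p ^ k = 1) : ∃ l, (v * g) ^ p ^ l = 1 := by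
  obtain ⟨l, hl⟩ := hV.to_sup_of_normal_left (isPGroup_zpowers_of_pow_eq_one hg)
    ⟨v * g, mul_mem (mem_sup_left hv) (mem_sup_right (mem_zpowers g))⟩
  exact ⟨l, congrArg Subtype.val hl⟩

/-- No exceptional configuration of Theorem B occurs in `G`. -/
def NoExc (p : ℕ) (G : Type*) [Group G] : Prop :=
  ∀ q n e : ℕ, q.Prime → q ≠ p → 1 ≤ n → 1 ≤ e → p ^ n = q ^ e + 1 →
    ∀ R : Subgroup G, IsPGroup q R → IsMulCommutative R

theorem NoExc.of_surjective [Finite G] {p : ℕ} (h : NoExc p G) {H : Type*} [Group H] {f : G →* H}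
    (hf : Function.Surjective f) : NoExc p H := by
  intro q n e hq h1 h2 h3 h4 R hR
  by_contra hc
  obtain ⟨S, -, b1, b2⟩ := exists_not_comm_of_map f (Q := ⊤) hq
    (by rw [map_top_of_surjective _ hf]; exact le_top) hR hc
  exact b2 (h q n e hq h1 h2 h3 h4 S b1)

theorem isMulCommutative_of_sylow {q : ℕ} (h : ∀ Q : Sylow q G, IsMulCommutative (Q : Subgroup G))
    (R : Subgroup G) (hR : IsPGroup q R) : IsMulCommutative R := by
  obtain ⟨Q, hQ⟩ := hR.exists_le_sylow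
  have := h Q
  exact ⟨⟨fun a b => Subtype.ext (setLike_mul_comm (hQ a.2) (hQ b.2))⟩⟩

theorem pow_mem_pPrimePCore [Finite G] {p : ℕ} (hp : p.Prime) (hG : IsPSolvable p G)
    (hexc : NoExc p G) {m : ℕ} (hexp : PExpLE p (m + 1) G) {g : G} {k : ℕ} (hg : g ^ p ^ k = 1) :
    g ^ p ^ m ∈ pPrimePCore p G := by
  obtain ⟨H, _, _, f, hf, h1, h2, h3, h4⟩ := exists_std hp hG
  rw [← h4, mem_comap, map_pow]
  by_contra hcon
  have hexp' := hexp.of_surjective hp hf
  have hg' : f g ^ p ^ k = 1 := by rw [← map_pow, hg, map_one]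
  obtain ⟨q, a1, a2, ⟨R, a3, a4⟩, n, e, a5, -, a6, a7⟩ := hhb_std_norm hp h1 h2 h3 hcon
    fun v hv => by
      obtain ⟨l, hl⟩ := exists_mul_pow_eq_one (L.isPGroup_pCore p) hv hg'
      rw [hexp' _ _ hl, hexp' _ _ hg']
  exact a4 (hexc.of_surjective hf q n e a1 a2 a5 a6 a7 R a3)

theorem pExpLE_quotient_of_forall_mem [Finite G] {p : ℕ} (hp : p.Prime) {m : ℕ} (N : Subgroup G)
    [N.Normal] (h : ∀ (g : G) (k : ℕ), g ^ p ^ k = 1 → g ^ p ^ m ∈ N) : PExpLE p m (G ⧸ N) := by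
  intro y k hy
  obtain ⟨x, rfl, l, hl⟩ := exists_lift_pElement (QuotientGroup.mk'_surjective N) hp hy
  rw [← map_pow, QuotientGroup.mk'_apply, QuotientGroup.eq_one_iff]
  exact h x l hl

theorem pLengthLE_of_noExc {p : ℕ} (hp : p.Prime) (e : ℕ) :
    ∀ (G : Type u) [Group G] [Finite G], IsPSolvable p G → NoExc p G → PExpLE p e G →
      PLengthLE p e G := by
  induction e with
  | zero => exact fun G _ _ _ _ h => (L.pLengthLE_zero_iff hp).mpr (h.coprime hp)
  | succ e ih =>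
    intro G _ _ hG hexc hexp
    exact (L.pLengthLE_succ_iff hp).mpr (ih _ (L.IsPSolvable.quotient hp hG _)
      (hexc.of_surjective (QuotientGroup.mk'_surjective _))
      (pExpLE_quotient_of_forall_mem hp _ fun g k hg => pow_mem_pPrimePCore hp hG hexc hexp hg))

end Cfsg.Agent.H1
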