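import Cfsg.Agent.H1.HHExc

/-! `2`-groups `T` with `Ω₁(T) = V` central, `T / V` elementary abelian and equidistributed
squares: odd order automorphisms centralizing `V` are trivial or fixed-point-free on `T / V`. -/

set_option autoImplicit false

open Subgroup
open scoped commutatorElement

namespace Cfsg.Agent.H1

theorem eq_one_of_two_pow_eq_mul {M a o : ℕ} (h : 2 ^ M = a * o) (ho : Odd o) : o = 1 :=
  Nat.eq_one_of_dvd_coprimes ((Nat.coprime_two_right.mpr ho).pow_right M) dvd_rfl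
    (h ▸ dvd_mul_left _ _)

theorem aniso_arith {M n r F : ℕ} (hn : 1 ≤ n) (hM : n < M) (hr : n ≤ r)
    (h1 : 2 ^ M + F = 2 ^ n + 2 ^ n * F) (h2 : ((2 : ℤ) ^ n - F) ^ 2 = 2 ^ M * 2 ^ r) :
    M = 3 * n ∧ r = n := by
  have hpos : 0 < 2 ^ n := by positivity
  have hF : 2 ^ n ≤ F := by
    by_contra hc
    have h3 : (F : ℤ) < 2 ^ n := by exact_mod_cast not_le.mp hc
    have h4 : (2 : ℤ) ^ n < 2 ^ M := pow_lt_pow_right₀ (by norm_num) hM
    have h5 : (2 : ℤ) ^ n ≤ 2 ^ r := pow_le_pow_right₀ (by norm_num) hr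
    have h6 : (0 : ℤ) < 2 ^ n := by positivity
    nlinarith
  obtain ⟨d, rfl⟩ := Nat.exists_eq_add_of_le hF
  have h3 : d ^ 2 = 2 ^ (M + r) := by
    rw [pow_add]; push_cast at h2
    exact_mod_cast (show (d : ℤ) ^ 2 = 2 ^ M * 2 ^ r by rw [← h2]; ring)
  obtain ⟨a, -, rfl⟩ := (Nat.dvd_prime_pow Nat.prime_two).mp
    (h3 ▸ dvd_pow_self d two_ne_zero : d ∣ 2 ^ (M + r))
  rw [← pow_mul] at h3
  have h4 := Nat.pow_right_injective le_rfl h3
  obtain ⟨o, ho⟩ : ∃ o, 2 ^ n = 2 * o + 1 + 1 := by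
    obtain ⟨n, rfl⟩ := Nat.exists_eq_add_of_le' hn
    exact ⟨2 ^ n - 1, by have : 0 < 2 ^ n := by positivity
                         rw [pow_succ]; omega⟩
  have h5 : 2 ^ M = 2 ^ (2 * n) + (2 * o + 1) * 2 ^ a := by
    rw [two_mul, pow_add]; nlinarith
  rcases lt_trichotomy a (2 * n) with h | h | h
  · obtain ⟨c, hc⟩ := Nat.exists_eq_add_of_lt h
    have := eq_one_of_two_pow_eq_mul (M := M) (a := 2 ^ a) (o := 2 * (2 ^ c + o) + 1)
      (by rw [h5, hc]; ring) (odd_two_mul_add_one _)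
    have : 0 < 2 ^ c := by positivity
    omega
  · have : 2 ^ M = 2 ^ (3 * n) := by
      rw [h5, h, show 3 * n = 2 * n + n by ring, pow_add 2 (2 * n), ho]; ring
    have := Nat.pow_right_injective le_rfl this
    omega
  · obtain ⟨c, hc⟩ := Nat.exists_eq_add_of_lt h
    have := eq_one_of_two_pow_eq_mul (M := M) (a := 2 ^ (2 * n)) (o := 2 * ((2 * o + 1) * 2 ^ c) + 1)
      (by rw [h5, hc]; ring) (odd_two_mul_add_one _)
    have : 0 < (2 * o + 1) * 2 ^ c := by positivity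
    omega

section

variable {T : Type*} [Group T] [Finite T] {V : Subgroup T} (hc : V ≤ center T)
  (h1 : ∀ x : T, x ^ 2 = 1 ↔ x ∈ V) (h2 : ∀ x : T, x ^ 2 ∈ V) {F : ℕ}
  (hF : ∀ v ∈ V, v ≠ 1 → Nat.card {t : T // t ^ 2 = v} = F)

include h2 in
omit [Finite T] in
theorem aniso_commutator_mem (x y : T) : ⁅x, y⁆ ∈ V := by
  have := mul_mem (mul_mem (h2 x) (h2 (x⁻¹ * y))) (h2 y⁻¹)
  convert this using 1
  simp only [commutatorElement_def, sq]; group

include hc h1 h2 hF

theorem aniso_core (hFN : F ≠ Nat.card V) (hV : V ≠ ⊤) {B : Subgroup T} (hB : B.relIndex V = 2) :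
    Nat.card T = Nat.card V ^ 3 ∧ ∀ y, (∀ x, ⁅y, x⁆ ∈ B) → y ∈ V := by
  classical
  have := Fintype.ofFinite T
  have hcm := aniso_commutator_mem h2
  have hcc : ∀ v ∈ V, ∀ x, Commute x v := fun v hv x => mem_center_iff.mp (hc hv) x
  let χ : V →* ℤ :=
    { toFun := fun v => if v ∈ B.subgroupOf V then 1 else -1
      map_one' := if_pos (one_mem _)
      map_mul' := fun a b => by
        simp only [mul_mem_iff_of_index_two hB]
        split_ifs <;> simp_all }
  have hχ : ∀ v, χ v = 1 ↔ (v : T) ∈ B := fun v => by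
    change (if v ∈ B.subgroupOf V then (1 : ℤ) else -1) = 1 ↔ v ∈ B.subgroupOf V
    split_ifs <;> simp_all
  have hχ1 : χ ≠ 1 := fun h => by
    rw [relIndex_eq_one.mpr fun v hv => (hχ ⟨v, hv⟩).mp (by rw [h]; rfl)] at hB
    omega
  let c : T → ℤ := fun t => χ ⟨t ^ 2, h2 t⟩
  let β : T → T →* ℤ := fun y => χ.comp <| MonoidHom.mk' (fun x => ⟨⁅y, x⁆, hcm y x⟩) fun a b => by
    refine Subtype.ext ?_
    calc ⁅y, a * b⁆ = ⁅y, a⁆ * (a * ⁅y, b⁆ * a⁻¹) := by simp only [commutatorElement_def]; group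
      _ = _ := by rw [(hcc _ (hcm y b) a).eq, mul_inv_cancel_right]; rfl
  have hcc2 : ∀ x, c x * c x = 1 := fun x => by
    rw [← map_mul, ← map_one χ]
    exact congrArg χ (Subtype.ext (by simpa [sq] using (h1 _).mpr (h2 x)))
  have hmul : ∀ x y, c (x * y) = c x * c y * β y x := fun x y => by
    change χ _ = χ _ * χ _ * χ _
    rw [← map_mul, ← map_mul]
    exact congrArg χ (Subtype.ext (by
      simpa using mul_pow_of_central (hcc _ (hcm y x) x) (hcc _ (hcm y x) y) 2))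
  let R : Subgroup T :=
    { carrier := {y | ∀ x, ⁅y, x⁆ ∈ B}
      one_mem' := by simp
      mul_mem' := fun {a b} ha hb x => by
        rw [commutatorElement_mul_left_of_central (hcc _ (hcm b x) a)]; exact mul_mem (hb x) (ha x)
      inv_mem' := fun {a} ha x => by
        have : ⁅a⁻¹, x⁆ = ⁅a, x⁆⁻¹ := by
          rw [eq_inv_iff_mul_eq_one, ← commutatorElement_mul_left_of_central (hcc _ (hcm _ x) a)]
          simp
        rw [this]; exact inv_mem (ha x) }
  have hR : ∀ y, β y = 1 ↔ y ∈ R := fun y =>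
    ⟨fun h x => (hχ ⟨_, hcm y x⟩).mp (DFunLike.congr_fun h x), fun h =>
      MonoidHom.ext fun x => (hχ ⟨_, hcm y x⟩).mpr (h x)⟩
  have hVR : V ≤ R := fun v hv x => by
    rw [commutatorElement_eq_one_iff_commute.mpr (hcc v hv x).symm]; exact one_mem _
  let γ : R →* ℤ :=
    { toFun := fun y => c y
      map_one' := (hχ _).mpr (by simp)
      map_mul' := fun a b => by rw [coe_mul, hmul, (hR _).mpr b.2]; simp }
  have hS2 : (∑ t, c t) ^ 2 = Nat.card T * ∑ y : R, γ y := by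
    rw [sq, Finset.sum_mul_sum]
    calc ∑ x, ∑ y, c x * c y = ∑ x, ∑ y, c y * β y x := Finset.sum_congr rfl fun x _ => by
          rw [← Equiv.sum_comp (Equiv.mulLeft x)]
          exact Finset.sum_congr rfl fun y _ => by
            rw [Equiv.coe_mulLeft, hmul, ← mul_assoc, ← mul_assoc, hcc2, one_mul]
      _ = ∑ y, if y ∈ R then Nat.card T * c y else 0 := by
          rw [Finset.sum_comm]
          exact Finset.sum_congr rfl fun y _ => by
            rw [← Finset.mul_sum, sum_hom_units, Nat.card_eq_fintype_card]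
            simp only [hR]
            split_ifs <;> simp [mul_comm]
      _ = _ := by
          rw [← Finset.sum_filter, Finset.mul_sum]
          exact Finset.sum_subtype _ (by simp) _
  have hsum : ∀ g : V → ℤ, ∑ t, g ⟨t ^ 2, h2 t⟩ = (Nat.card V - F) * g 1 + F * ∑ v, g v := by
    intro g
    rw [← Finset.sum_fiberwise' Finset.univ (fun t : T => (⟨t ^ 2, h2 t⟩ : V)) g, Finset.mul_sum,
      ← Finset.add_sum_erase _ _ (Finset.mem_univ 1), ← Finset.add_sum_erase _ _ (Finset.mem_univ 1),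
      ← add_assoc]
    congr 1
    · rw [Finset.sum_const, nsmul_eq_mul, ← add_mul, sub_add_cancel, Nat.card_eq_fintype_card,
        Fintype.card_subtype]
      simp only [Subtype.ext_iff, coe_one, h1]
    · refine Finset.sum_congr rfl fun v hv => ?_
      rw [Finset.sum_const, nsmul_eq_mul, ← hF v v.2 (by simpa using hv), Nat.card_eq_fintype_card,
        Fintype.card_subtype]
      simp only [Subtype.ext_iff]
  have hS : ∑ t, c t = Nat.card V - F := by
    rw [hsum χ, sum_hom_units_eq_zero χ hχ1]; simp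
  have hT := hsum fun _ => 1
  simp only [Finset.sum_const, Finset.card_univ, nsmul_eq_mul, mul_one,
    ← Nat.card_eq_fintype_card] at hT
  rw [hS, sum_hom_units, ← Nat.card_eq_fintype_card] at hS2
  split_ifs at hS2
  swap
  · rw [Nat.cast_zero, mul_zero, pow_eq_zero_iff two_ne_zero, sub_eq_zero] at hS2
    exact absurd (by exact_mod_cast hS2.symm) hFN
  have hT2 : IsPGroup 2 T := fun x => ⟨2, by rw [sq, pow_mul]; exact (h1 _).mpr (h2 x)⟩
  obtain ⟨M, hM⟩ := IsPGroup.iff_card.mp hT2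
  obtain ⟨n, hn⟩ := IsPGroup.iff_card.mp (hT2.to_subgroup V)
  obtain ⟨r, hr⟩ := IsPGroup.iff_card.mp (hT2.to_subgroup R)
  obtain ⟨a1, a2⟩ := aniso_arith (M := M) (n := n) (r := r) (F := F)
    (Nat.pos_of_ne_zero fun h => by
      have := relIndex_dvd_card B V
      rw [hB, hn, h] at this
      omega)
    ((Nat.pow_lt_pow_iff_right one_lt_two).mp (by rw [← hn, ← hM]; exact L.card_lt_of_ne_top hV))
    ((Nat.pow_le_pow_iff_right one_lt_two).mp (by rw [← hn, ← hr]; exact card_le_of_le hVR))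
    (by rw [← hM, ← hn]; zify; linarith) (by rw [hM, hn, hr] at hS2; exact_mod_cast hS2)
  refine ⟨by rw [hM, hn, a1, ← pow_mul, mul_comm], fun y hy => ?_⟩
  rw [eq_of_le_of_card_ge hVR (by rw [hn, hr, a2])]
  exact hy

theorem aniso_card_centralizer (hFN : F ≠ Nat.card V) {x : T} (hx : x ∉ V) :
    Nat.card T = Nat.card V ^ 3 ∧ Nat.card (centralizer ({x} : Set T)) = Nat.card V ^ 2 := by
  have hcm := aniso_commutator_mem h2
  have hcc : ∀ v ∈ V, ∀ x, Commute x v := fun v hv x => mem_center_iff.mp (hc hv) x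
  have hV : V ≠ ⊤ := fun h => hx (h ▸ mem_top x)
  have hE : IsElementaryAbelian 2 V :=
    ⟨⟨⟨fun a b => Subtype.ext (hcc _ b.2 a).eq⟩⟩, fun a ha => (h1 a).mpr ha⟩
  let f : T →* T := MonoidHom.mk' (fun y => ⁅x, y⁆) fun a b => by
    calc ⁅x, a * b⁆ = ⁅x, a⁆ * (a * ⁅x, b⁆ * a⁻¹) := by simp only [commutatorElement_def]; group
      _ = _ := by rw [(hcc _ (hcm x b) a).eq, mul_inv_cancel_right]
  have hf : f.range = V := by
    refine (eq_of_le_of_not_lt (by rintro _ ⟨y, rfl⟩; exact hcm x y) fun h => ?_)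
    obtain ⟨B, b1, -, b2⟩ := exists_relIndex_eq_of_lt Nat.prime_two hE h
    exact hx ((aniso_core hc h1 h2 hF hFN hV b2).2 x fun y => b1 ⟨y, rfl⟩)
  obtain ⟨B, -, -, b2⟩ := exists_relIndex_eq_of_lt Nat.prime_two hE (D := ⊥)
    (bot_lt_iff_ne_bot.mpr fun h => hx ((h1 x).mp (mem_bot.mp (h ▸ h2 x))))
  have h3 := (aniso_core hc h1 h2 hF hFN hV b2).1
  have h4 : f.ker = centralizer {x} := by
    ext y
    rw [mem_centralizer_singleton_iff, eq_comm]
    exact commutatorElement_eq_one_iff_mul_comm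
  refine ⟨h3, ?_⟩
  have h5 := f.ker.card_mul_index
  rw [index_ker, hf, h4, h3, pow_succ] at h5
  exact Nat.eq_of_mul_eq_mul_right Nat.card_pos h5

theorem aniso_decomp {U₁ U₂ : Subgroup T} (hinf : U₁ ⊓ U₂ = V) (hsup : U₁ ⊔ U₂ = ⊤)
    (hcomm : U₁ ≤ centralizer (U₂ : Set T)) (hU₁ : U₁ ≠ V) (hU₂ : U₂ ≠ V) : F = Nat.card V := by
  by_contra hFN
  have key : ∀ {A B : Subgroup T}, A ⊓ B = V → A ≤ centralizer (B : Set T) → A ≠ V →
      Nat.card T = Nat.card V ^ 3 ∧ Nat.card B < Nat.card V ^ 2 := by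
    intro A B h3 h4 h5
    obtain ⟨x, hx, hxV⟩ := SetLike.exists_of_lt (lt_of_le_of_ne (h3 ▸ inf_le_left : V ≤ A) h5.symm)
    obtain ⟨a1, a2⟩ := aniso_card_centralizer hc h1 h2 hF hFN hxV
    refine ⟨a1, a2 ▸ L.card_lt_of_lt (lt_of_le_of_ne (mem_centralizer_iff_le.mp (h4 hx)) ?_)⟩
    intro h
    exact hxV (h3 ▸ mem_inf.mpr ⟨hx, h ▸ mem_centralizer_singleton_iff.mpr rfl⟩)
  obtain ⟨a1, a2⟩ := key hinf hcomm hU₁
  obtain ⟨-, a3⟩ := key (inf_comm U₁ U₂ ▸ hinf) (le_centralizer_iff.mp hcomm) hU₂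
  have h3 := card_sup_mul_card_inf (le_normalizer_of_le_centralizer hcomm)
  rw [hsup, hinf, card_top, a1] at h3
  have := Nat.mul_lt_mul'' a3 a2
  rw [← h3, ← pow_succ, ← pow_add] at this
  exact lt_irrefl _ this

theorem aniso_mem_of_sq_eq (hFN : F = Nat.card V) {x y : T} (h : x ^ 2 = y ^ 2) :
    x⁻¹ * y ∈ V := by
  have hcc : ∀ v ∈ V, ∀ x, Commute x v := fun v hv x => mem_center_iff.mp (hc hv) x
  by_cases hx : x ^ 2 = 1
  · exact mul_mem (inv_mem ((h1 x).mp hx)) ((h1 y).mp (h ▸ hx))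
  let g : V → {t : T // t ^ 2 = x ^ 2} := fun v => ⟨x * v, by
    rw [(hcc _ v.2 x).mul_pow, (h1 _).mpr v.2, mul_one]⟩
  have hg : Function.Bijective g := (Nat.bijective_iff_injective_and_card g).mpr
    ⟨fun a b hab => Subtype.ext (mul_left_cancel (congrArg Subtype.val hab)),
      by rw [hF _ (h2 x) hx, hFN]⟩
  obtain ⟨v, hv⟩ := hg.2 ⟨y, h.symm⟩
  rw [← show x * v = y from congrArg Subtype.val hv, inv_mul_cancel_left]
  exact v.2

end

/-- Ambient form: an odd order group `A` acting on `T` and centralizing `V` either centralizes `T`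
or has all its fixed points in `V`. -/
theorem aniso_centralizer {X : Type*} [Group X] [Finite X] {T V A : Subgroup X} (hVT : V ≤ T)
    (hc : V ≤ centralizer (T : Set X)) (h1 : ∀ x ∈ T, x ^ 2 = 1 ↔ x ∈ V)
    (h2 : ∀ x ∈ T, x ^ 2 ∈ V) {F : ℕ}
    (hF : ∀ v ∈ V, v ≠ 1 → Nat.card {t : T // (t : X) ^ 2 = v} = F)
    (hAT : A ≤ normalizer (T : Set X)) (hAV : A ≤ centralizer (V : Set X))
    (hA : (Nat.card A).Coprime 2) :
    A ≤ centralizer (T : Set X) ∨ T ⊓ centralizer (A : Set X) ≤ V := by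
  have hT2 : IsPGroup 2 T := fun x => ⟨2, Subtype.ext (by
    rw [sq, pow_mul]; exact (h1 _ (pow_mem x.2 2)).mpr (h2 x x.2))⟩
  have hcop := coprime_card_of_isPGroup hT2 hA
  have hc' : V.subgroupOf T ≤ center T := fun v hv => mem_center_iff.mpr fun t =>
    Subtype.ext (mem_centralizer_iff.mp (hc hv) t t.2)
  have h1' : ∀ x : T, x ^ 2 = 1 ↔ x ∈ V.subgroupOf T := fun x =>
    Subtype.ext_iff.trans (h1 x x.2)
  have h2' : ∀ x : T, x ^ 2 ∈ V.subgroupOf T := fun x => h2 x x.2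
  have hF' : ∀ v ∈ V.subgroupOf T, v ≠ 1 → Nat.card {t : T // t ^ 2 = v} = F := fun v hv h => by
    rw [← hF v hv (by simpa using h)]
    simp only [Subtype.ext_iff, coe_pow]
  have hTT : ⁅T, T⁆ ≤ V := commutator_le.mpr fun x hx y hy =>
    aniso_commutator_mem h2' ⟨x, hx⟩ ⟨y, hy⟩
  have hTA : ⁅T, A⁆ ≤ T := commutator_le_of_le_normalizer hAT
  have hVA : V ≤ centralizer (A : Set X) := le_centralizer_iff.mp hAV
  by_contra hcon
  push Not at hcon
  have h3 : ¬ ⁅T, A⁆ ≤ V := fun h => hcon.1 (le_centralizer_of_commutator_le hAT hcop h hAV)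
  have h4 := aniso_decomp hc' h1' h2' hF' (U₁ := (T ⊓ centralizer (A : Set X)).subgroupOf T)
    (U₂ := (⁅T, A⁆ ⊔ V).subgroupOf T) (by
      ext x
      refine ⟨fun hx => ?_, fun hx => ⟨⟨x.2, hVA hx⟩, mem_sup_right hx⟩⟩
      exact mem_of_commutator_mem_of_abelian_section hVT hTT hAT
        (le_normalizer_of_le_centralizer hAV) hcop hx.2 fun a ha => by
          rw [commutatorElement_eq_one_iff_mul_comm.mpr (mem_centralizer_iff.mp hx.1.2 a ha).symm]
          exact one_mem _)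
    (by
      rw [← subgroupOf_sup inf_le_left (sup_le hTA hVT), subgroupOf_eq_top]
      conv_lhs => rw [← commutator_sup_centralizer hAT hcop (Or.inr (isSolvable_of_isPGroup hT2))]
      exact sup_le (le_sup_left.trans le_sup_right) le_sup_left)
    (by
      intro x hx
      rw [mem_centralizer_iff]
      intro y hy
      have h5 : ⁅T, A⁆ ⊔ V ≤ centralizer ((T ⊓ centralizer (A : Set X) : Subgroup X) : Set X) :=
        sup_le (commutator_eq_bot_iff_le_centralizer.mp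
          (commutator_commutator_centralizer_eq_bot (hTT.trans hVA)))
          (hc.trans (centralizer_le inf_le_left))
      exact Subtype.ext (mem_centralizer_iff.mp (h5 hy) x hx).symm)
    (fun h => hcon.2 fun x hx => (SetLike.ext_iff.mp h ⟨x, hx.1⟩).mp hx)
    (fun h => h3 fun x hx => (SetLike.ext_iff.mp h ⟨x, hTA hx⟩).mp (mem_sup_left hx))
  refine h3 (commutator_le.mpr fun x hx a ha => ?_)
  have := aniso_mem_of_sq_eq hc' h1' h2' hF' h4 (x := ⟨x⁻¹, inv_mem hx⟩)
    (y := ⟨_, conj_mem_of_le_normalizer hAT ha (inv_mem hx)⟩) (Subtype.ext (by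
      change x⁻¹ ^ 2 = (a * x⁻¹ * a⁻¹) ^ 2
      rw [conj_pow, ← mem_centralizer_iff.mp (hAV ha) _ (h2 _ (inv_mem hx)), mul_inv_cancel_right]))
  simpa [commutatorElement_def, mem_subgroupOf, mul_assoc] using this

end Cfsg.Agent.H1
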