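import Cfsg.Agent.H1.Basic

/-! The derived series of a subgroup, in the ambient group. -/

set_option autoImplicit false

open Subgroup

namespace Cfsg.Agent.H1

variable {G : Type*} [Group G]

/-- The derived series of a subgroup, in the ambient group. -/
def der (P : Subgroup G) : ℕ → Subgroup G
  | 0 => P
  | n + 1 => ⁅der P n, der P n⁆

@[simp] theorem der_zero (P : Subgroup G) : der P 0 = P := rfl

theorem der_succ (P : Subgroup G) (n : ℕ) : der P (n + 1) = ⁅der P n, der P n⁆ := rfl

theorem map_der {H : Type*} [Group H] (f : G →* H) (P : Subgroup G) (n : ℕ) :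
    (der P n).map f = der (P.map f) n := by
  induction n with
  | zero => rfl
  | succ n ih => rw [der_succ, map_commutator, ih, der_succ]

theorem der_top (n : ℕ) : der (⊤ : Subgroup G) n = derivedSeries G n := by
  induction n with
  | zero => rfl
  | succ n ih => rw [der_succ, ih]; rfl

theorem map_subtype_derivedSeries (P : Subgroup G) (n : ℕ) :
    (derivedSeries P n).map P.subtype = der P n := by
  rw [← der_top, map_der, ← MonoidHom.range_eq_map, range_subtype]

theorem der_eq_bot_iff {P : Subgroup G} {n : ℕ} : der P n = ⊥ ↔ derivedSeries P n = ⊥ := by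
  rw [← map_subtype_derivedSeries, map_eq_bot_iff_of_injective _ P.subtype_injective]

theorem der_mono {P Q : Subgroup G} (h : P ≤ Q) (n : ℕ) : der P n ≤ der Q n := by
  induction n with
  | zero => exact h
  | succ n ih => exact commutator_mono ih ih

theorem der_add (P : Subgroup G) (m n : ℕ) : der P (m + n) = der (der P m) n := by
  induction n with
  | zero => rfl
  | succ n ih => rw [← add_assoc, der_succ, ih, der_succ]

theorem der_le (P : Subgroup G) (n : ℕ) : der P n ≤ P := by
  induction n with
  | zero => exact le_rfl
  | succ n ih => exact (commutator_le_self _).trans ih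

theorem der_anti (P : Subgroup G) {m n : ℕ} (h : m ≤ n) : der P n ≤ der P m := by
  obtain ⟨k, rfl⟩ := Nat.exists_eq_add_of_le h
  rw [der_add]; exact der_le _ _

theorem le_normalizer_der {A P : Subgroup G} (h : A ≤ normalizer (P : Set G)) (n : ℕ) :
    A ≤ normalizer (der P n : Set G) := by
  induction n with
  | zero => exact h
  | succ n ih => exact le_normalizer_commutator ih ih

theorem der_bot (n : ℕ) : der (⊥ : Subgroup G) n = ⊥ := le_bot_iff.mp (der_le _ _)

theorem der_le_ker_iff {H : Type*} [Group H] (f : G →* H) (P : Subgroup G) (n : ℕ) :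
    der P n ≤ f.ker ↔ der (P.map f) n = ⊥ := by
  rw [← map_der, Subgroup.map_eq_bot_iff]

end Cfsg.Agent.H1
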