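import Cfsg.Agent.H1.Small
import Cfsg.Agent.H1.PExp

/-! The exceptional case of Hall–Higman's Theorem B: for `p` odd, the `p ^ m`-th powers of the
elements of a `p`-group all of whose elements are exceptional commute. -/

set_option autoImplicit false

open Module Subgroup
open scoped commutatorElement

namespace Cfsg.Agent.H1

variable {G : Type*} [Group G] {k V : Type*} [Field k] [AddCommGroup V] [Module k V]

theorem commutator_commutator_centralizer_eq_bot {R A : Subgroup G}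
    (hc : ⁅R, R⁆ ≤ centralizer (A : Set G)) :
    ⁅⁅R, A⁆, R ⊓ centralizer (A : Set G)⁆ = ⊥ := by
  rw [commutator_comm R A]
  refine commutator_commutator_eq_bot_of_rotate ?_ ?_
  · exact commutator_eq_bot_iff_le_centralizer.mpr ((commutator_mono le_rfl inf_le_left).trans hc)
  · rw [commutator_eq_bot_iff_le_centralizer.mpr inf_le_right, commutator_bot_left]

theorem relIndex_commutator_le [IsAlgClosed k] [FiniteDimensional k V] [Finite G] {p q : ℕ}
    (hp : p.Prime) (hq : q.Prime) (hqp : q ≠ p) [CharP k p] (ρ : G →* End k V) {R : Subgroup G}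
    (hR : IsPGroup q R) (hc : ⁅R, R⁆ ≤ centralizer (R : Set G)) {g : G}
    (hg : g ∈ normalizer (R : Set G)) {m : ℕ} (hg1 : g ^ p ^ (m + 1) = 1)
    (hz : ⁅R, R⁆ ≤ centralizer (zpowers (g ^ p ^ m) : Set G)) {U : Submodule k V}
    (hRU : ∀ x ∈ R, ∀ u ∈ U, ρ x u ∈ U) (hgU : ∀ u ∈ U, ρ g u ∈ U)
    (hsc : ∀ t ∈ ⁅R, R⁆, ∃ c : k, ∀ u ∈ U, ρ t u = c • u)
    (hr : ∀ u ∈ U, ((ρ g - 1) ^ (p ^ (m + 1) - 1)) u = 0) {D : Subgroup G}
    (hD : ∀ r ∈ R, (∀ s ∈ R, ∀ u ∈ U, ρ ⁅r, s⁆ u = u) → r ∈ D) :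
    D.relIndex ⁅R, zpowers (g ^ p ^ m)⁆ ≤ (p ^ (m + 1)) ^ 2 := by
  have := Fact.mk hq
  set z := g ^ p ^ m with hzdef
  set S := ⁅R, zpowers z⁆ with hS
  have hzR : zpowers z ≤ normalizer (R : Set G) := zpowers_le.mpr (pow_mem hg _)
  have hSR : S ≤ R := commutator_le_of_le_normalizer hzR
  have hcop : (orderOf z).Coprime q := orderOf_coprime_of_pow_eq_one (p := p) (m := 1)
    (by rw [hzdef, ← pow_mul, ← pow_add, hg1]) ((Nat.coprime_primes hq hp).mpr hqp)
  have hcop' : (Nat.card (zpowers z)).Coprime (Nat.card R) := by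
    rw [Nat.card_zpowers]; exact coprime_card_of_isPGroup hR hcop
  have hgS : g ∈ normalizer (S : Set G) := zpowers_le.mp (le_normalizer_commutator
    (zpowers_le.mpr hg) (le_normalizer_of_le_centralizer (zpowers_le.mpr (by
      rw [centralizer_zpowers', mem_centralizer_singleton_iff]
      exact (Commute.self_pow g _).eq))))
  have hSq : IsPGroup q S := hR.to_le hSR
  have hqk : (q : k) ≠ 0 := cast_ne_zero_of_prime_ne hp hq hqp
  let σ : S →* End k U := restrictRep (ρ.comp S.subtype) U fun x => hRU x (hSR x.2)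
  have hpos : 0 < p ^ (m + 1) := pow_pos hp.pos _
  by_cases hnt : ∃ x ∈ (⊤ : Subgroup S), σ x ≠ 1
  swap
  · push Not at hnt
    rw [relIndex_eq_one.mpr fun r hr' => hD r (hSR hr') fun s hs u hu => ?_]
    · exact Nat.one_le_pow _ _ hpos
    have h1 : ∀ x ∈ S, ∀ u ∈ U, ρ x u = u := fun x hx u hu =>
      congrArg Subtype.val (LinearMap.congr_fun (hnt ⟨x, hx⟩ trivial) ⟨u, hu⟩)
    rw [commutatorElement_def, map_mul, map_mul, map_mul, End.mul_apply, End.mul_apply,
      End.mul_apply, h1 _ (inv_mem hr') _ (hRU _ (inv_mem hs) u hu), ← End.mul_apply (ρ s),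
      rep_mul_inv, End.one_apply, h1 _ hr' _ hu]
  have hcov : ∀ x, (ρ g).restrict hgU * σ x = σ (conjAutOf hgS x) * (ρ g).restrict hgU := by
    intro x
    ext u
    exact LinearMap.congr_fun (cov_conjAutOf ρ hgS x) u
  obtain ⟨W, h1, h2, h3, h4⟩ := exists_nofix_subspace σ ⊤
    (by rw [card_top]; exact cast_card_ne_zero_of_isPGroup hq hSq hqk) hnt
  obtain ⟨-, n, e, -, b2, -, b4, -, Z, hZ, U', -, hU'0, hU', hZU⟩ := hhb_core hp hq hSq hqk
    (commute_commutator_of_le_centralizer ((commutator_mono hSR hSR).trans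
      (hc.trans (centralizer_le hSR)))) hcov (conjAutOf_pow_eq_one hgS (hg1 ▸ one_mem _))
    (fpf_of_commutator_eq hgS (coprime_card_of_isPGroup hSq hcop)
      (commutator_commutator_eq hzR hcop')) h1 h2 (h4 _ _ hcov (by simp))
    (fun v hv h => h3 v hv fun x _ => h x) (r := p ^ (m + 1) - 1) (by
      ext u
      rw [coe_restrict_sub_one_pow, hr u u.2]; rfl) (by omega)
  have hZD : Z ≤ D.subgroupOf S := by
    intro r hr'
    refine hD r (hSR r.2) fun s hs u hu => ?_
    obtain ⟨s₁, hs₁, s₂, hs₂, rfl⟩ := exists_commutator_mul_centralizer hzR hcop'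
      (Or.inl (isSolvable_of_isMulCommutative inferInstance)) hs
    have e1 : ⁅(r : G), s₂⁆ = 1 := mem_bot.mp (commutator_commutator_centralizer_eq_bot hz ▸
      commutator_mem_commutator r.2 hs₂)
    have e2 : ⁅(r : G), s₁ * s₂⁆ = ⁅(r : G), s₁⁆ := by
      calc ⁅(r : G), s₁ * s₂⁆ = ⁅(r : G), s₁⁆ * (s₁ * ⁅(r : G), s₂⁆ * s₁⁻¹) := by
            simp only [commutatorElement_def]; group
        _ = _ := by rw [e1]; group
    obtain ⟨c, hc'⟩ := hsc _ (commutator_mem_commutator (hSR r.2) (hSR hs₁))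
    obtain ⟨u', hu', hu'0⟩ := (Submodule.ne_bot_iff _).mp hU'0
    obtain ⟨d, hd⟩ := (hZU r).mp hr'
    have e3 : σ ⁅r, ⟨s₁, hs₁⟩⁆ u' = u' := by
      rw [commutatorElement_def, map_mul, map_mul, map_mul, End.mul_apply, End.mul_apply,
        End.mul_apply, hd _ (hU' _ _ (hU' _ _ (hU' _ _ hu'))), ← map_smul,
        ← hd _ (hU' _ _ (hU' _ _ hu')), ← End.mul_apply (σ r), rep_mul_inv, End.one_apply,
        ← End.mul_apply, rep_mul_inv, End.one_apply]
    have e4 : c • (u' : V) = u' := (hc' u' u'.2).symm.trans (congrArg Subtype.val e3)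
    have e5 : c = 1 := by
      by_contra h
      refine hu'0 (Subtype.ext ?_)
      rw [← sub_eq_zero, ← one_smul k (u' : V), smul_smul, mul_one, ← sub_smul] at e4
      simpa [sub_ne_zero.mpr h] using e4
    rw [e2, hc' u hu, e5, one_smul]
  calc D.relIndex S ≤ Z.index := Nat.le_of_dvd (Nat.pos_of_ne_zero index_ne_zero_of_finite)
        (index_dvd_of_le hZD)
    _ = (q ^ e) ^ 2 := by rw [hZ, ← pow_mul, mul_comm]
    _ ≤ _ := Nat.pow_le_pow_left (by
      have := Nat.pow_le_pow_right hp.pos b2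
      omega) 2

open scoped IsMulCommutative in
theorem card_range_commEnd_quotAct_le [Finite G] {R Y D : Subgroup G}
    (hYR : Y ≤ normalizer (R : Set G)) [(D.subgroupOf R).Normal]
    [IsMulCommutative (R ⧸ D.subgroupOf R)]
    (h : ∀ a, ∀ x ∈ D.subgroupOf R, conjAut hYR a x ∈ D.subgroupOf R) (z : Y) :
    Nat.card (MonoidHom.range (commEnd (quotAct (conjAut hYR) _ h z))) ≤
      D.relIndex ⁅R, zpowers (z : G)⁆ := by
  have hSR : ⁅R, zpowers (z : G)⁆ ≤ R := commutator_le_of_le_normalizer (zpowers_le.mpr (hYR z.2))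
  let f := (QuotientGroup.mk' (D.subgroupOf R)).comp (inclusion hSR)
  have hf : f.ker = D.subgroupOf _ := by
    rw [← MonoidHom.comap_ker, QuotientGroup.ker_mk', comap_inclusion_subgroupOf]
  rw [relIndex, ← hf, index_ker]
  refine card_le_of_le ?_
  rintro _ ⟨w, rfl⟩
  obtain ⟨w, rfl⟩ := QuotientGroup.mk_surjective w
  refine ⟨⟨⁅(z : G), (w : G)⁆, by
    rw [commutator_comm]; exact commutator_mem_commutator (mem_zpowers _) w.2⟩, ?_⟩
  change _ = (quotAct (conjAut hYR) _ h z) _ * _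
  rw [quotAct_mk, ← QuotientGroup.mk_inv, ← QuotientGroup.mk_mul]
  rfl

open scoped IsMulCommutative in
/-- If all elements of the `p`-group `P` are exceptional, then the commutators of the `p ^ m`-th
powers centralize every `p'`-subgroup normalized by `P`. -/
theorem commutator_pow_mem_centralizer' [IsAlgClosed k] [FiniteDimensional k V] [Finite G] {p : ℕ}
    (hp : p.Prime) (hp2 : p ≠ 2) [CharP k p] (ρ : G →* End k V) (hρ : ∀ g, ρ g = 1 → g = 1)
    {P Q : Subgroup G} (hP : IsPGroup p P) (hQ : (Nat.card Q).Coprime p)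
    (hPQ : P ≤ normalizer (Q : Set G)) {m : ℕ}
    (hr : ∀ x ∈ P, (ρ x - 1) ^ (p ^ (m + 1) - 1) = 0) {x y : G} (hx : x ∈ P) (hy : y ∈ P) :
    ⁅x ^ p ^ m, y ^ p ^ m⁆ ∈ centralizer (Q : Set G) := by
  classical
  have := Fact.mk hp
  have hpE : (p : End k V) = 0 := cast_end_eq_zero p
  have hpos : ∀ n, 0 < p ^ n := fun n => pow_pos hp.pos _
  have hexp : ∀ x ∈ P, x ^ p ^ (m + 1) = 1 := fun x hx => hρ _ (by
    rw [map_pow, ← sub_eq_zero, ← sub_one_pow_pow hp hpE, ← Nat.sub_add_cancel (hpos (m + 1)),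
      pow_succ, hr x hx, zero_mul])
  let A := closure {c | ∃ x ∈ P, ∃ y ∈ P, c = ⁅x ^ p ^ m, y ^ p ^ m⁆}
  have hAP : A ≤ P := (closure_le _).mpr (by
    rintro _ ⟨x, hx, y, hy, rfl⟩
    exact commutator_le_self _ (commutator_mem_commutator (pow_mem hx _) (pow_mem hy _)))
  have hPA : P ≤ normalizer (A : Set G) := fun g hg => L.mem_normalizer_closure_of_conj_mem (by
    rintro _ ⟨x, hx, y, hy, rfl⟩
    exact ⟨_, mul_mem (mul_mem hg hx) (inv_mem hg), _, mul_mem (mul_mem hg hy) (inv_mem hg), by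
      rw [conjugate_commutatorElement, conj_pow, conj_pow]⟩)
  suffices h : ⁅Q, A⁆ = ⊥ from
    commutator_eq_bot_iff_le_centralizer'.mp h (subset_closure ⟨x, hx, y, hy, rfl⟩)
  by_contra hnt
  clear hx hy x y
  have hPQc : (Nat.card P).Coprime (Nat.card Q) := (coprime_card_of_isPGroup hP hQ).symm
  obtain ⟨q, hq, hqQ, R, hRQ, hR, hPR, hnt', hmin⟩ := exists_minimal_nontrivial_isPGroup hPQ hPQc
    (Or.inl (isSolvable_of_isPGroup hP)) hnt
  have := Fact.mk hq
  have hqp : q ≠ p := by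
    rintro rfl
    exact hp.one_lt.ne' (Nat.eq_one_of_dvd_coprimes hQ hqQ dvd_rfl)
  have hc : ⁅R, R⁆ ≤ centralizer (R : Set G) := minimal_class_two hR hPR hAP hPA
    ((coprime_of_le hPQc hAP le_rfl).coprime_dvd_right hqQ) hnt' hmin
  set Z := ⁅R, R⁆ with hZ
  have hZR : Z ≤ R := commutator_le_self _
  have hZc : IsMulCommutative Z := le_centralizer_iff_isMulCommutative.mp
    (hc.trans (centralizer_le hZR))
  have hPZ : P ≤ normalizer (Z : Set G) := le_normalizer_commutator hPR hPR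
  have hzZ' : ∀ Z ≤ R, Z ≤ centralizer (R : Set G) → P ≤ normalizer (Z : Set G) →
      ∀ x ∈ P, x ^ p ^ m ∈ centralizer (Z : Set G) := by
    intro Z hZR hc hPZ x hx
    by_contra h
    rw [mem_centralizer_iff] at h
    push Not at h
    obtain ⟨t, ht, h⟩ := h
    obtain ⟨_, -, -, ⟨S, hS, -, hS'⟩, -⟩ := hall_higman_B hp ρ
      (hQ.coprime_dvd_left (card_dvd_of_le (hZR.trans hRQ))) (hPZ hx) (m := m)
      ⟨t, ht, fun h1 => h (commutatorElement_eq_one_iff_mul_comm.mp (hρ _ h1))⟩ (hr x hx)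
      (Nat.sub_lt (hpos _) one_pos)
    exact hS' (le_centralizer_iff_isMulCommutative.mp
      (hS.trans (hc.trans (centralizer_le (hS.trans hZR)))))
  have hzZ := hzZ' Z hZR hc hPZ
  obtain ⟨x, hx, y, hy, hxy⟩ : ∃ x ∈ P, ∃ y ∈ P,
      ⁅x ^ p ^ m, y ^ p ^ m⁆ ∉ centralizer (R : Set G) := by
    by_contra h
    push Not at h
    exact hnt' (commutator_eq_bot_iff_le_centralizer'.mpr ((closure_le _).mpr (by
      rintro _ ⟨x, hx, y, hy, rfl⟩; exact h x hx y hy)))
  set c := ⁅x ^ p ^ m, y ^ p ^ m⁆ with hcdef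
  have hcP : c ∈ P := hAP (subset_closure ⟨x, hx, y, hy, rfl⟩)
  have hcR : ∀ r ∈ R, ⁅c, r⁆ ∈ R := fun r hr =>
    mul_mem (conj_mem_of_le_normalizer hPR hcP hr) (inv_mem hr)
  obtain ⟨r, hrR, s, hsR, ht⟩ : ∃ r ∈ R, ∃ s ∈ R, ⁅⁅c, r⁆, s⁆ ≠ 1 := by
    by_contra h
    push Not at h
    have h1 := hzZ' _ inf_le_left inf_le_right (le_normalizer_inf hPR (le_normalizer_centralizer hPR))
    refine hxy (zpowers_le.mp (le_centralizer_of_commutator_le (zpowers_le.mpr (hPR hcP))
      (coprime_of_le hPQc (zpowers_le.mpr hcP) hRQ) (H := R ⊓ centralizer (R : Set G))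
      (commutator_zpowers_le (le_normalizer_inf hPR (le_normalizer_centralizer hPR) hcP)
        fun r hr => ?_) (zpowers_le.mpr (commutator_le_self _
          (commutator_mem_commutator (h1 x hx) (h1 y hy))))))
    rw [← commutatorElement_inv]
    exact inv_mem (mem_inf.mpr ⟨hcR r hr, mem_centralizer_iff.mpr fun s hs =>
      (commutatorElement_eq_one_iff_mul_comm.mp (h r hr s hs)).symm⟩)
  set t := ⁅⁅c, r⁆, s⁆ with htdef
  have htZ : t ∈ Z := commutator_mem_commutator (hcR r hrR) hsR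
  have hqk : (q : k) ≠ 0 := cast_ne_zero_of_prime_ne hp hq hqp
  obtain ⟨W₀, h1, h2, h3, -⟩ := exists_nofix_subspace (ρ.comp Z.subtype) (zpowers ⟨t, htZ⟩)
    (cast_card_ne_zero_of_isPGroup hq ((hR.to_le hZR).to_subgroup _) hqk)
    ⟨_, mem_zpowers _, fun h => ht (hρ _ h)⟩
  obtain ⟨μ, v, hv, hv0, hμ⟩ := exists_weight_vector (ρ.comp Z.subtype) h1 h2 fun i j v _ => by
    rw [← End.mul_apply, ← map_mul, mul_comm, map_mul, End.mul_apply]
  let U : Submodule k V := ⨅ z : Z, (ρ z).eigenspace (μ z)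
  have hU : ∀ {u}, u ∈ U ↔ ∀ z : Z, ρ z u = μ z • u := by
    intro u; simp [U]
  have hCU : ∀ g ∈ centralizer (Z : Set G), ∀ u ∈ U, ρ g u ∈ U := fun g hg u hu => hU.mpr fun z => by
    rw [← End.mul_apply, ← map_mul, mem_centralizer_iff.mp hg z z.2, map_mul, End.mul_apply,
      hU.mp hu, map_smul]
  have hRU : ∀ g ∈ R, ∀ u ∈ U, ρ g u ∈ U := fun g hg => hCU g (le_centralizer_iff.mp hc hg)
  let Y : Subgroup G :=
    { carrier := {g | g ∈ P ∧ ∀ u ∈ U, ρ g u ∈ U}
      one_mem' := ⟨one_mem _, by simp⟩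
      mul_mem' := fun ha hb => ⟨mul_mem ha.1 hb.1, fun u hu => by
        rw [map_mul]; exact ha.2 _ (hb.2 u hu)⟩
      inv_mem' := fun {a} ha => ⟨inv_mem ha.1, fun u hu => by
        rw [inv_eq_of_mul_eq_one_right (show a * a ^ (p ^ (m + 1) - 1) = 1 by
          rw [← pow_succ', Nat.sub_add_cancel (hpos _), hexp a ha.1]), map_pow]
        exact pow_apply_mem ha.2 _ hu⟩ }
  have hYP : Y ≤ P := fun _ h => h.1
  let D : Subgroup G :=
    { carrier := {a | a ∈ R ∧ ∀ b ∈ R, ∀ u ∈ U, ρ ⁅a, b⁆ u = u}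
      one_mem' := ⟨one_mem _, by simp⟩
      mul_mem' := fun {a a'} ha ha' => ⟨mul_mem ha.1 ha'.1, fun b hb u hu => by
        rw [commutatorElement_mul_left_of_central (mem_centralizer_iff.mp
          (hc (commutator_mem_commutator ha'.1 hb)) a ha.1), map_mul, End.mul_apply, ha.2 b hb u hu,
          ha'.2 b hb u hu]⟩
      inv_mem' := fun {a} ha => ⟨inv_mem ha.1, fun b hb u hu => by
        have e : ⁅a⁻¹, b⁆ * ⁅a, b⁆ = 1 := by
          rw [← commutatorElement_mul_left_of_central (mem_centralizer_iff.mp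
            (hc (commutator_mem_commutator (inv_mem ha.1) hb)) a ha.1)]
          simp
        conv_lhs => rw [← ha.2 b hb u hu]
        rw [← End.mul_apply, ← map_mul, e, map_one, End.one_apply]⟩ }
  have hZD : Z ≤ D := fun a ha => ⟨hZR ha, fun b hb u _ => by
    rw [commutatorElement_eq_one_iff_mul_comm.mpr (mem_centralizer_iff.mp (hc ha) b hb).symm,
      map_one, End.one_apply]⟩
  have hD' : _root_.commutator R ≤ D.subgroupOf R := by
    rw [subgroupOf, ← map_le_iff_le_comap, map_subtype_commutator]; exact hZD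
  have : (D.subgroupOf R).Normal := Normal.of_commutator_le _ hD'
  have : IsMulCommutative (R ⧸ D.subgroupOf R) :=
    Normal.quotient_commutative_iff_commutator_le.mpr hD'
  let ψ : Y →* MulAut (R ⧸ D.subgroupOf R) := quotAct (conjAut (hYP.trans hPR)) _ (by
    rintro ⟨g, hg⟩ ⟨a, haR⟩ ⟨-, ha : ∀ b ∈ R, ∀ u ∈ U, ρ ⁅a, b⁆ u = u⟩
    refine ⟨Subtype.property _, fun b hb u hu => ?_⟩
    have e : ⁅g * a * g⁻¹, b⁆ = g * ⁅(a : G), g⁻¹ * b * g⁆ * g⁻¹ := by
      simp only [commutatorElement_def]; group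
    change ρ ⁅g * a * g⁻¹, b⁆ u = u
    rw [e, map_mul, map_mul, End.mul_apply, End.mul_apply,
      ha _ (conj_mem_of_le_normalizer' hPR hg.1 hb) _ ((inv_mem hg).2 u hu), ← End.mul_apply,
      rep_mul_inv, End.one_apply])
  have hzY : ∀ x ∈ P, x ^ p ^ m ∈ Y := fun x hx => ⟨pow_mem hx _, hCU _ (hzZ x hx)⟩
  have hsmall : ∀ x (hx : x ∈ P), Small p ψ.range (ψ ⟨_, hzY x hx⟩) := by
    intro x hx
    obtain ⟨_, -, ht, -, a1, a2⟩ := exists_weight_orbit (ρ.comp Z.subtype)
      (MulAut.toPerm Z (conjAutOf (hPZ hx))) (ρ x) (cov_conjAutOf ρ (hPZ hx)) (hpos m)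
      (by rw [← map_pow, conjAutOf_pow_eq_one _ (hzZ x hx), map_one]) μ
    obtain ⟨j, hj, rfl⟩ := (Nat.dvd_prime_pow hp).mp ht
    have hh : x ^ p ^ j ∈ Y := ⟨pow_mem hx _, fun u hu => hU.mpr (by
      rw [map_pow]; exact a1 u (hU.mp hu))⟩
    have e1 : (x ^ p ^ j) ^ p ^ (m - j) = x ^ p ^ m := by
      rw [← pow_mul, ← pow_add, Nat.add_sub_cancel' hj]
    have e2 : p ^ j * p ^ (m - j + 1) = p ^ (m + 1) := by rw [← pow_add]; congr 1; omega
    refine ⟨ψ ⟨_, hh⟩, ⟨_, rfl⟩, m - j, by rw [← map_pow]; exact congrArg ψ (Subtype.ext e1.symm),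
      by rw [← map_pow, ← map_one ψ]; exact congrArg ψ (Subtype.ext (by
        simpa [← pow_mul, ← pow_succ] using hexp x hx)), ?_⟩
    have hb := relIndex_commutator_le hp hq hqp ρ hR hc (hPR hh.1) (m := m - j)
      (by rw [← pow_mul, e2, hexp x hx])
      (by rw [e1]; exact le_centralizer_iff.mp (zpowers_le.mpr (hzZ x hx))) hRU hh.2
      (fun t ht => ⟨μ ⟨t, ht⟩, fun u hu => hU.mp hu ⟨t, ht⟩⟩) (fun u hu => by
        have hu' : ((ρ (x ^ p ^ j) - 1) ^ (p ^ (m - j + 1) - 1)) u ∈ U :=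
          pow_apply_mem (fun w hw => U.sub_mem (hh.2 w hw) hw) _ hu
        simpa using a2 (fun _ => _) (fun _ => hU.mp hu') (by
          rw [← LinearMap.sum_apply, geom_sum_eq_sub_one_pow hp hpE, map_pow,
            ← sub_one_pow_pow hp hpE, ← pow_mul, ← End.mul_apply, ← pow_add,
            show p ^ j - 1 + p ^ j * (p ^ (m - j + 1) - 1) = p ^ (m + 1) - 1 by
              rw [Nat.mul_sub, e2, mul_one]
              have := hpos j
              have := Nat.pow_le_pow_right hp.pos (show j ≤ m + 1 by omega)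
              omega, hr x hx]
          rfl) 0 (hpos j)) (D := D) fun r hr h => ⟨hr, h⟩
    rw [e1] at hb
    exact le_trans (card_range_commEnd_quotAct_le _ _ _) hb
  have hcomm := Small.commute hp hp2
    (hQ.coprime_dvd_left (((D.subgroupOf R).index_dvd_card).trans (card_dvd_of_le hRQ)))
    ((hP.to_le hYP).of_surjective _ ψ.rangeRestrict_surjective) (hsmall x hx) (hsmall y hy)
  rw [← commutatorElement_eq_one_iff_commute, ← map_commutatorElement, quotAct_eq_one_iff] at hcomm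
  have h4 : ρ t v = v := (hcomm ⟨r, hrR⟩).2 s hsR v (hU.mpr hμ)
  exact hv0 (h3 v hv fun a ha => by
    obtain ⟨n, rfl⟩ := mem_powers_iff_mem_zpowers.mpr ha
    rw [map_pow, End.pow_apply]
    exact Function.iterate_fixed h4 n)

/-- The `p ^ m`-th powers of the elements of any `p`-subgroup commute. -/
def PowComm (p m : ℕ) (G : Type*) [Group G] : Prop :=
  ∀ P : Subgroup G, IsPGroup p P → ∀ x ∈ P, ∀ y ∈ P, Commute (x ^ p ^ m) (y ^ p ^ m)

theorem PowComm.of_surjective [Finite G] {p m : ℕ} (hp : p.Prime) (h : PowComm p m G) {H : Type*}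
    [Group H] {f : G →* H} (hf : Function.Surjective f) : PowComm p m H := by
  have := Fact.mk hp
  intro P hP
  obtain ⟨S, -, hS, rfl⟩ := exists_isPGroup_map_eq f (Q := ⊤)
    (by rw [map_top_of_surjective _ hf]; exact le_top) hP
  rintro _ ⟨x, hx, rfl⟩ _ ⟨y, hy, rfl⟩
  simpa only [map_pow] using (h S hS x hx y hy).map f

open scoped IsMulCommutative in
theorem PowComm.pow_mem_pPrimePCore [Finite G] {p : ℕ} (hp : p.Prime) (hp2 : p ≠ 2)
    (hG : IsPSolvable p G) {m : ℕ} (h : PowComm p m G) {g : G} {l : ℕ} (hg : g ^ p ^ l = 1) :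
    g ^ p ^ m ∈ pPrimePCore p G := by
  have := Fact.mk hp
  obtain ⟨H, _, _, f, hf, h1, h2, h3, h4⟩ := exists_std hp hG
  rw [← h4, mem_comap, map_pow]
  by_contra hcon
  have := h3.1
  have hV := pow_eq_one_of_isElementaryAbelian h3
  have hpE : (p : End (ZMod p) (EA (pCore p H) hV)) = 0 := cast_end_eq_zero p
  have hP : IsPGroup p (zpowers (f g) ⊔ pCore p H : Subgroup H) :=
    (isPGroup_zpowers_of_pow_eq_one (k := l) (by rw [← map_pow, hg, map_one])).to_sup_of_normal_right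
      (L.isPGroup_pCore p)
  have h3p : 3 * p ^ m ≤ p ^ (m + 1) := by
    rw [pow_succ']
    exact Nat.mul_le_mul_right _ (by have := hp.two_le; omega)
  have hpos := pow_pos hp.pos m
  obtain ⟨-, -, -, -, n, -, a1, a2, -, -, a3⟩ := hhb_std hp h1 h2 hV hcon
    (r := p ^ m + (p ^ m - 1)) (by
      refine LinearMap.ext fun v => ?_
      obtain ⟨v, rfl⟩ := (eaOf hV).surjective v
      obtain ⟨w, b1, b2⟩ := stdRep_geom_sum hV (f g) v (p ^ m)
      obtain ⟨u, c1, c2⟩ := stdRep_sub_one_apply hV (f g ^ p ^ m) w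
      have := h.of_surjective hp hf _ hP _ (mul_mem_sup (mem_zpowers (f g))
        (Normal.conj_mem' inferInstance _ v.2 (f g))) _ (mem_sup_left (mem_zpowers (f g)))
      rw [← mul_assoc, ← mul_assoc, mul_inv_cancel, one_mul, b1] at this
      have hu : u = 1 := Subtype.ext (by
        rw [c1]
        exact commutatorElement_eq_one_iff_mul_comm.mpr
          (mul_right_cancel (b := f g ^ p ^ m) (by rw [mul_assoc]; exact this.eq.symm)))
      rw [pow_add, End.mul_apply, ← geom_sum_eq_sub_one_pow hp hpE, b2, sub_one_pow_pow hp hpE,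
        ← map_pow, ← QuotientGroup.mk_pow, c2, hu]
      rfl) (by omega)
  rw [Nat.mul_sub, ← pow_add, Nat.sub_add_cancel a2, mul_one] at a3
  have := Nat.pow_le_pow_right hp.pos (show m + 1 - n ≤ m by omega)
  omega

open scoped IsMulCommutative in
theorem powComm_quotient [Finite G] {p : ℕ} (hp : p.Prime) (hp2 : p ≠ 2) (hG : IsPSolvable p G)
    {m : ℕ} (hexp : PExpLE p (m + 1) G) : PowComm p m (G ⧸ pPrimePCore p G) := by
  have := Fact.mk hp
  obtain ⟨H, _, _, f, hf, h1, h2, h3, h4⟩ := exists_std hp hG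
  refine PowComm.of_surjective hp (G := H ⧸ pCore p H) ?_
    (f := (quotComapEquiv hf _ h4).symm.toMonoidHom) (MulEquiv.surjective _)
  have := h3.1
  have hV := pow_eq_one_of_isElementaryAbelian h3
  have hexp' := hexp.of_surjective hp hf
  have hC := L.centralizer_pCore_le hp h1 h2
  intro P hP x hx y hy
  have h5 := commutator_pow_mem_centralizer' hp hp2
    (baseChangeRep (AlgebraicClosure (ZMod p)) (stdRep hV))
    (fun g hg => eq_one_of_stdRep_eq_one hV hC ((baseChangeRep_eq_one_iff _ _ _).mp hg)) hP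
    (L.coprime_card_pPrimeCore p) le_normalizer_of_normal (m := m) (fun x hx => by
      obtain ⟨l, hl⟩ := hP ⟨x, hx⟩
      obtain ⟨g, rfl, l', hl'⟩ := exists_lift_pElement (QuotientGroup.mk'_surjective _) hp
        (congrArg Subtype.val hl : x ^ p ^ l = 1)
      have h6 := stdRep_geom_sum_eq_zero hV (g := g) (n := p ^ (m + 1)) fun v hv => by
        obtain ⟨l, hl⟩ := exists_mul_pow_eq_one (L.isPGroup_pCore p) hv hl'
        rw [hexp' _ _ hl, hexp' _ _ hl']
      rw [geom_sum_eq_sub_one_pow hp (cast_end_eq_zero p)] at h6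
      have := congrArg (End.baseChangeHom (ZMod p) (AlgebraicClosure (ZMod p)) _) h6
      rwa [map_pow, map_sub, map_one, map_zero] at this) hx hy
  obtain ⟨l, hl⟩ := hP ⟨_, commutator_le_self _
    (commutator_mem_commutator (pow_mem hx (p ^ m)) (pow_mem hy (p ^ m)))⟩
  exact commutatorElement_eq_one_iff_commute.mp (eq_one_of_mem_pPrimeCore
    (congrArg Subtype.val hl) (L.centralizer_pPrimeCore_le hp (L.IsPSolvable.quotient hp h1 _)
      (L.pCore_quotient_pCore hp) h5))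

/-- **Hall–Higman**: for `p` odd, the `p ^ m`-th powers of `p`-elements of a `p`-solvable group of
`p`-exponent `p ^ (m + 1)` lie in `O_{p',p,p',p}`. -/
theorem pow_mem_pPrimePCore_quotient [Finite G] {p : ℕ} (hp : p.Prime) (hp2 : p ≠ 2)
    (hG : IsPSolvable p G) {m : ℕ} (hexp : PExpLE p (m + 1) G) {g : G ⧸ pPrimePCore p G} {l : ℕ}
    (hg : g ^ p ^ l = 1) : g ^ p ^ m ∈ pPrimePCore p (G ⧸ pPrimePCore p G) :=
  (powComm_quotient hp hp2 hG hexp).pow_mem_pPrimePCore hp hp2 (L.IsPSolvable.quotient hp hG _) hg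

universe u in
theorem pLengthLE_two_mul {p : ℕ} (hp : p.Prime) (hp2 : p ≠ 2) (e : ℕ) :
    ∀ (G : Type u) [Group G] [Finite G], IsPSolvable p G → PExpLE p e G →
      PLengthLE p (2 * e) G := by
  induction e with
  | zero => exact fun G _ _ _ h => (L.pLengthLE_zero_iff hp).mpr (h.coprime hp)
  | succ e ih =>
    intro G _ _ hG hexp
    exact (L.pLengthLE_succ_iff hp).mpr ((L.pLengthLE_succ_iff hp).mpr (ih _
      (L.IsPSolvable.quotient hp (L.IsPSolvable.quotient hp hG _) _)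
      (pExpLE_quotient_of_forall_mem hp _ fun g k hg =>
        pow_mem_pPrimePCore_quotient hp hp2 hG hexp hg)))

end Cfsg.Agent.H1
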