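import Cfsg.Agent.H1.PAction
import Cfsg.Agent.L.Cores
import Cfsg.Prelude.Def_LocalEven

/-! Sections (`Involves`) and recognition of `S₄` sections. -/

set_option autoImplicit false

open Subgroup
open scoped commutatorElement

namespace Cfsg.Agent.H1

variable {G : Type*} [Group G]

theorem involves_iff {H : Type*} [Group H] :
    Involves H G ↔ ∃ (K : Subgroup G) (f : K →* H), Function.Surjective f := by
  constructor
  · rintro ⟨K, R, _, ⟨e⟩⟩
    exact ⟨K, e.toMonoidHom.comp (QuotientGroup.mk' _),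
      e.surjective.comp (QuotientGroup.mk'_surjective _)⟩
  · rintro ⟨K, f, hf⟩
    have h : (f.ker.map K.subtype).subgroupOf K = f.ker :=
      comap_map_eq_self_of_injective K.subtype_injective _
    have hn : ((f.ker.map K.subtype).subgroupOf K).Normal := by rw [h]; infer_instance
    exact ⟨K, f.ker.map K.subtype, hn, ⟨(QuotientGroup.quotientMulEquivOfEq h).trans
      (QuotientGroup.quotientKerEquivOfSurjective f hf)⟩⟩

theorem involves_of_surjective {H X : Type*} [Group H] [Group X] {f : G →* X}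
    (hf : Function.Surjective f) (h : Involves H X) : Involves H G := by
  obtain ⟨K, g, hg⟩ := involves_iff.mp h
  refine involves_iff.mpr ⟨K.comap f, g.comp ((f.comp (K.comap f).subtype).codRestrict K
    fun x => x.2), hg.comp fun y => ?_⟩
  obtain ⟨x, hx⟩ := hf y
  exact ⟨⟨x, by rw [mem_comap, hx]; exact y.2⟩, Subtype.ext hx⟩

theorem involves_of_injective {H X : Type*} [Group H] [Group X] {f : X →* G}
    (hf : Function.Injective f) (h : Involves H X) : Involves H G := by
  obtain ⟨K, g, hg⟩ := involves_iff.mp h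
  exact involves_iff.mpr ⟨K.map f, g.comp (K.equivMapOfInjective f hf).symm.toMonoidHom,
    hg.comp (K.equivMapOfInjective f hf).symm.surjective⟩

theorem involves_of_subgroup {H : Type*} [Group H] {K : Subgroup G} (h : Involves H K) :
    Involves H G := involves_of_injective K.subtype_injective h

theorem involves_of_hom {H : Type*} [Group H] {f : G →* H} (hf : Function.Surjective f) :
    Involves H G :=
  involves_iff.mpr ⟨⊤, f.comp (⊤ : Subgroup G).subtype, hf.comp fun x => ⟨⟨x, mem_top x⟩, rfl⟩⟩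

theorem exists_surjective_S4 [Finite G] {W : Subgroup G} [W.Normal] (hW : Nat.card W = 4) {ρ b : G}
    (hρ : orderOf ρ = 3) {k : ℕ} (hb : b ^ 2 ^ k = 1) (hinv : b * ρ * b⁻¹ = ρ⁻¹)
    (hC : W ⊓ centralizer ({ρ} : Set G) = ⊥) (htop : zpowers ρ ⊔ zpowers b ⊔ W = ⊤) :
    ∃ f : G →* Equiv.Perm (Fin 4), Function.Surjective f := by
  have : Fact (Nat.Prime 2) := ⟨Nat.prime_two⟩
  have : Fact (Nat.Prime 3) := ⟨Nat.prime_three⟩
  set D := zpowers ρ ⊔ zpowers b with hD
  have hbn : b ∈ normalizer (zpowers ρ : Set G) := by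
    refine map_conj_eq_self_iff.mp ?_
    rw [MonoidHom.map_zpowers]
    change zpowers (b * ρ * b⁻¹) = _
    rw [hinv, zpowers_inv]
  have hDn : D ≤ normalizer (zpowers ρ : Set G) := sup_le le_normalizer (zpowers_le.mpr hbn)
  have hρW : zpowers ρ ⊓ W = ⊥ := inf_eq_bot_of_coprime' (by rw [Nat.card_zpowers, hρ, hW]; decide)
  have hDW : D ⊓ W = ⊥ := by
    rw [eq_bot_iff, ← hC]
    intro x hx
    obtain ⟨hx1, hx2⟩ := mem_inf.mp hx
    refine ⟨hx2, mem_centralizer_singleton_iff.mpr (commutatorElement_eq_one_iff_mul_comm.mp ?_)⟩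
    rw [← mem_bot, ← hρW]
    refine mem_inf.mpr ⟨mul_mem (conj_mem_of_le_normalizer hDn hx1 (mem_zpowers ρ)) (inv_mem (mem_zpowers ρ)),
      ?_⟩
    have := mul_mem hx2 (Normal.conj_mem inferInstance _ (inv_mem hx2) ρ)
    simpa only [commutatorElement_def, mul_assoc] using this
  have hidx : D.index = 4 := by
    have h1 := card_sup_of_inf_eq_bot (le_normalizer_of_normal (H := W) (K := D)) hDW
    rw [htop, card_top, hW, ← D.card_mul_index] at h1
    exact Nat.eq_of_mul_eq_mul_left Nat.card_pos h1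
  set f := MulAction.toPermHom G (G ⧸ D) with hf
  have hker : f.ker ≤ D := D.normalCore_eq_ker ▸ D.normalCore_le
  have hkW : f.ker ⊓ W = ⊥ := eq_bot_iff.mpr (hDW ▸ inf_le_inf_right _ hker)
  have hfρ : orderOf (f ρ) = 3 := by
    refine orderOf_eq_prime (by rw [← map_pow, ← hρ, pow_orderOf_eq_one, map_one]) fun h => ?_
    have h1 : W ≤ centralizer ({ρ} : Set G) := fun w hw => mem_centralizer_singleton_iff.mpr
      (L.commute_of_normal_of_inf_eq_bot hkW h hw).eq.symm
    rw [inf_eq_left.mpr h1] at hC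
    rw [hC, card_bot] at hW
    omega
  have h3 : 3 ∣ Nat.card f.range := hfρ ▸ orderOf_dvd_natCard _ ⟨ρ, rfl⟩
  have h8 : 8 ∣ Nat.card f.range := by
    have hT : IsPGroup 2 ((W ⊔ zpowers b).map f) :=
      (IsPGroup.to_sup_of_normal_left (IsPGroup.of_card (n := 2) hW) (by
        rintro ⟨_, n, rfl⟩
        refine ⟨k, Subtype.ext ?_⟩
        change (b ^ n) ^ 2 ^ k = 1
        rw [← zpow_natCast, ← zpow_mul, mul_comm, zpow_mul, zpow_natCast, hb, one_zpow])).map f
    have h4 : Nat.card (W.map f) = 4 := by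
      have := card_inf_mul_relIndex f.ker W
      rwa [relIndex_ker, hkW, card_bot, one_mul, hW] at this
    have hlt : W.map f < (W ⊔ zpowers b).map f := by
      refine lt_of_le_of_ne (map_mono le_sup_left) fun h => ?_
      obtain ⟨w, hw, hwb⟩ : f b ∈ W.map f := h ▸ mem_map_of_mem f (mem_sup_right (mem_zpowers b))
      have h1 : b * w⁻¹ ∈ D := hker (by rw [MonoidHom.mem_ker, map_mul, map_inv, hwb]; simp)
      have h2 : w ∈ D ⊓ W := ⟨by
        simpa using mul_mem (inv_mem h1) (mem_sup_right (mem_zpowers b) : b ∈ D), hw⟩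
      rw [hDW, mem_bot] at h2
      have h5 := congrArg f hinv
      rw [map_mul, map_mul, map_inv, ← hwb, h2, map_one, inv_one, one_mul, mul_one, map_inv,
        eq_inv_iff_mul_eq_one, ← sq] at h5
      have := orderOf_dvd_of_pow_eq_one h5
      rw [hfρ] at this
      omega
    obtain ⟨j, hj⟩ := hT.exists_card_eq
    have h5 := card_lt_of_lt hlt
    rw [h4, hj, show 4 = 2 ^ 2 by norm_num, Nat.pow_lt_pow_iff_right one_lt_two] at h5
    exact (pow_dvd_pow 2 h5).trans (hj ▸ card_dvd_of_le (map_le_range f _))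
  have hc : Nat.card (G ⧸ D) = 4 := hidx
  have htop' : f.range = ⊤ := by
    refine eq_top_of_le_card _ (Nat.le_of_dvd Nat.card_pos ?_)
    rw [Nat.card_perm, hc]
    exact Nat.Coprime.mul_dvd_of_dvd_of_dvd (m := 3) (n := 8) (by decide) h3 h8
  obtain ⟨e⟩ : Nonempty (G ⧸ D ≃ Fin 4) := ⟨Finite.equivFinOfCardEq hc⟩
  exact ⟨e.permCongrHom.toMonoidHom.comp f,
    e.permCongrHom.surjective.comp (MonoidHom.range_eq_top.mp htop')⟩

theorem involves_S4 [Finite G] {W : Subgroup G} (hW : Nat.card W = 4) {ρ b : G}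
    (hρW : ρ ∈ normalizer (W : Set G)) (hbW : b ∈ normalizer (W : Set G))
    (hρ : orderOf ρ = 3) {k : ℕ} (hb : b ^ 2 ^ k = 1) (hinv : b * ρ * b⁻¹ = ρ⁻¹)
    (hC : W ⊓ centralizer ({ρ} : Set G) = ⊥) : Involves (Equiv.Perm (Fin 4)) G := by
  set K := zpowers ρ ⊔ zpowers b ⊔ W with hK
  have hWK : W ≤ K := le_sup_right
  have : (W.subgroupOf K).Normal := normal_subgroupOf_of_le
    (sup_le (sup_le (zpowers_le.mpr hρW) (zpowers_le.mpr hbW)) le_normalizer)
  have hρK : ρ ∈ K := mem_sup_left (mem_sup_left (mem_zpowers ρ))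
  have hbK : b ∈ K := mem_sup_left (mem_sup_right (mem_zpowers b))
  obtain ⟨f, hf⟩ := exists_surjective_S4 (W := W.subgroupOf K) (ρ := ⟨ρ, hρK⟩) (b := ⟨b, hbK⟩)
    (by rw [Nat.card_congr (subgroupOfEquivOfLe hWK).toEquiv, hW]) (by rwa [orderOf_mk])
    (k := k) (Subtype.ext hb) (Subtype.ext hinv) (by
      rw [eq_bot_iff]
      rintro x ⟨hx1, hx2⟩
      have : (x : G) ∈ W ⊓ centralizer ({ρ} : Set G) := ⟨hx1, mem_centralizer_singleton_iff.mpr
        (congrArg Subtype.val (mem_centralizer_singleton_iff.mp hx2))⟩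
      rw [hC] at this
      exact Subtype.ext this) (by
      apply map_injective K.subtype_injective
      rw [Subgroup.map_sup, Subgroup.map_sup, MonoidHom.map_zpowers, MonoidHom.map_zpowers,
        map_subgroupOf_eq_of_le hWK, ← MonoidHom.range_eq_map, range_subtype]
      rfl)
  exact involves_iff.mpr ⟨K, f, hf⟩

end Cfsg.Agent.H1
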